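import Groth.Agent.Lib.AlgSpLimit.System
import Groth.Agent.Lib.AlgSpace.OpenSubExists
import Mathlib.AlgebraicGeometry.AffineTransitionLimit
import Mathlib.AlgebraicGeometry.Morphisms.Etale

/-! # The topology of the points of a limit -/

set_option autoImplicit false
set_option linter.style.haveILetI false
set_option backward.isDefEq.respectTransparency false
set_option backward.isDefEq.respectTransparency.types false

universe u

open CategoryTheory CategoryTheory.Limits AlgebraicGeometry Topology
open AlgSp Groth.Agent.Lib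

namespace Groth.Agent.H8.LimTopology.Basic

variable {S : Scheme.{u}}

set_option maxHeartbeats 800000 in
/-- The topology of the points of a limit with affine transitions is induced by the projections. -/
theorem topology_eq {I : Type u} [SmallCategory I] [IsCofiltered I] {D : I ⥤ Sp S}
    (hD : ∀ i, IsAlgSpace (D.obj i))
    (hDa : ∀ (i j : I) (φ : i ⟶ j), IsAffineMor (D.map φ)) (c : Cone D) (hc : IsLimit c) :
    Points.topologicalSpace c.pt =
      ⨅ i, TopologicalSpace.induced (Points.map (c.π.app i)) (Points.topologicalSpace (D.obj i)) := by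
  refine le_antisymm (le_iInf fun i => continuous_iff_le_induced.1 (Points.continuous_map _)) ?_
  intro W hW
  rw [@isOpen_iff_forall_mem_open _ (⨅ i, TopologicalSpace.induced (Points.map (c.π.app i))
    (Points.topologicalSpace (D.obj i)))]
  intro x hx
  have i₀ : I := IsCofiltered.nonempty.some
  obtain ⟨U, a, ha, has⟩ := (hD i₀).atlas
  obtain ⟨u, hu⟩ := AlgSpace.surjective_ofPt has (Points.map (c.π.app i₀) x)
  obtain ⟨_, ⟨N, hN, rfl⟩, huN, -⟩ :=
    U.left.isBasis_affineOpens.exists_subset_of_mem_open (Set.mem_univ u) isOpen_univ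
  change U.left.Opens at N
  let W₀ : Over S := Over.mk (N.ι ≫ U.hom)
  let a₀ : (yon S).obj W₀ ⟶ D.obj i₀ := (yon S).map (Over.homMk N.ι rfl : W₀ ⟶ U) ≫ a
  have ha₀ : RepWith @Etale a₀ :=
    AlgSpace.repWith_yon_map_comp (inferInstanceAs (Etale N.ι)) ha
  obtain ⟨E, e, r, α, π, hr, ⟨hlim⟩, hA, hea, sqE, hα₀, sqπ⟩ :=
    AlgSpLimit.exists_system hDa hc i₀ (W₀ := W₀) hN a₀
  haveI := hr
  let j₀ := CategoryTheory.Over.mk (𝟙 i₀)
  have hαe : ∀ j, RepWith @Etale (α j) := fun j => by
    refine AlgSpace.repWith_baseChange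
      (sqE (CategoryTheory.Over.homMk j.hom (Category.comp_id _) : j ⟶ j₀)) ?_
    rw [hα₀]
    exact (AlgSpace.repWith_iso_comp_iff _ ((yon S).map r) _).2 ha₀
  obtain ⟨w₀, hw₀⟩ : ∃ w₀ : (E.obj j₀).left, r.left w₀ = (⟨u, huN⟩ : N.toScheme) := by
    haveI : IsIso r.left := inferInstanceAs (IsIso ((Over.forget S).map r))
    exact r.left.homeomorph.surjective _
  obtain ⟨z, hz, hzx⟩ := AlgSpace.exists_of_isPullback (sqπ j₀) (Points.ofScheme _ w₀) x (by
    rw [← Points.ofPt_eq_map_ofScheme, hα₀, AlgSpace.ofPt_yon_map_comp, hw₀]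
    refine (AlgSpace.ofPt_yon_map_comp (Over.homMk N.ι rfl : W₀ ⟶ U) a _).trans ?_
    exact hu)
  let w : e.pt.left := Points.toScheme e.pt z
  have hw : Points.ofPt π w = x := by
    rw [Points.ofPt_eq_map_ofScheme, Points.ofScheme_toScheme]; exact hzx
  haveI : ∀ j, IsAffine ((E ⋙ Over.forget S).obj j) := hA
  haveI : ∀ {i j : CategoryTheory.Over i₀} (f : i ⟶ j), IsAffineHom ((E ⋙ Over.forget S).map f) :=
    fun f => isAffineHom_of_isAffine _
  haveI := hea
  obtain ⟨_, ⟨O', hO', rfl⟩, hwO', hO'W⟩ := e.pt.left.isBasis_affineOpens.exists_subset_of_mem_open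
    (show w ∈ Points.ofPt π ⁻¹' W by rw [Set.mem_preimage, hw]; exact hx)
    (hW.preimage (Points.continuous_ofPt π))
  change e.pt.left.Opens at O'
  obtain ⟨j, V, -, hV⟩ :=
    exists_preimage_eq (E ⋙ Over.forget S) ((Over.forget S).mapCone e) hlim O' hO'.isCompact
  change (E.obj j).left.Opens at V
  refine ⟨Points.map (c.π.app j.left) ⁻¹' (Points.ofPt (α j) '' (V : Set (E.obj j).left)), ?_,
    ?_, ?_⟩
  · rintro y ⟨o, ho, hy⟩
    obtain ⟨z', hz', hzy⟩ := AlgSpace.exists_of_isPullback (sqπ j) (Points.ofScheme _ o) y (by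
      rw [← Points.ofPt_eq_map_ofScheme]; exact hy)
    have h1 : (e.π.app j).left (Points.toScheme e.pt z') = o := by
      refine (Points.toScheme_ofPt (e.π.app j) (Points.toScheme e.pt z')).symm.trans ?_
      refine (congrArg (Points.toScheme _) (?_ : _ = Points.map ((yon S).map (e.π.app j)) z')).trans ?_
      · exact (Points.ofPt_eq_map_ofScheme _ _).trans
          (congrArg (Points.map _) (Points.ofScheme_toScheme e.pt z'))
      · rw [hz', Points.toScheme_ofScheme]
    have h2 : Points.toScheme e.pt z' ∈ O' := by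
      rw [← hV]
      show (e.π.app j).left (Points.toScheme e.pt z') ∈ V
      rw [h1]
      exact ho
    have h3 := hO'W h2
    rw [Set.mem_preimage, Points.ofPt_eq_map_ofScheme, Points.ofScheme_toScheme, hzy] at h3
    exact h3
  · have h : IsOpen (Points.ofPt (α j) '' (V : Set (E.obj j).left)) :=
      AlgSpace.isOpenMap_ofPt (hαe j) _ V.2
    exact iInf_le (fun i => TopologicalSpace.induced (Points.map (c.π.app i))
      (Points.topologicalSpace (D.obj i))) j.left _ ⟨_, h, rfl⟩
  · have h1 : (e.π.app j).left w ∈ V := by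
      have : w ∈ O' := hwO'
      rw [← hV] at this
      exact this
    refine ⟨_, h1, ?_⟩
    rw [← hw, Points.map_ofPt]
    exact ((congrArg (fun g => Points.ofPt g w) (sqπ j).w.symm).trans
      (AlgSpace.ofPt_yon_map_comp (e.π.app j) (α j) w)).symm

end Groth.Agent.H8.LimTopology.Basic
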